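import Cfsg.Agent.Lib.MaxTensor.Homogeneous
import Cfsg.Agent.Lib.UnitPrimeDim.Reduce
import Cfsg.Agent.Lib.Geometry.UnitaryBasic

/-!
A homogeneous normal subgroup of a unitary group gives a tensor decomposition of the Hermitian form;
over the field with four elements such decompositions with a 2-dimensional factor are orthogonal sums.
-/

set_option autoImplicit false

namespace Cfsg.Agent.Lib.UnitTwoPrime

open Matrix Module
open scoped MatrixGroups Matrix Kronecker
open Cfsg.Geo (formOfGram gramMatrix)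

variable {ι : Type} [Fintype ι] [DecidableEq ι] {F : Type*} [Field F]

/-- A non-degenerate Hermitian form for the involution `σ`. -/
structure Herm (σ : F →+* F) (f : (ι → F) → (ι → F) → F) : Prop where
  invol : ∀ x, σ (σ x) = x
  add_left : ∀ x y v, f (x + y) v = f x v + f y v
  smul_left : ∀ (c : F) (x v : ι → F), f (c • x) v = c * f x v
  herm : ∀ v w, f v w = σ (f w v)
  nondegenerate : Cfsg.Geo.IsNondegenerateForm f

namespace Herm

variable {σ : F →+* F} {f : (ι → F) → (ι → F) → F}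

omit [DecidableEq ι] in
theorem add_right (hf : Herm σ f) (v x y : ι → F) : f v (x + y) = f v x + f v y := by
  rw [hf.herm v, hf.add_left, map_add, ← hf.herm, ← hf.herm]

omit [DecidableEq ι] in
theorem smul_right (hf : Herm σ f) (c : F) (v x : ι → F) : f v (c • x) = σ c * f v x := by
  rw [hf.herm v, hf.smul_left, map_mul, ← hf.herm]

omit [DecidableEq ι] in
theorem zero_left (hf : Herm σ f) (v : ι → F) : f 0 v = 0 := by
  simpa using hf.smul_left 0 0 v

omit [DecidableEq ι] in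
theorem zero_right (hf : Herm σ f) (v : ι → F) : f v 0 = 0 := by
  rw [hf.herm, hf.zero_left, map_zero]

omit [DecidableEq ι] in
theorem sum_left (hf : Herm σ f) {κ : Type*} (s : Finset κ) (x : κ → ι → F) (v : ι → F) :
    f (∑ i ∈ s, x i) v = ∑ i ∈ s, f (x i) v := by
  classical
  induction s using Finset.induction with
  | empty => simp [hf.zero_left]
  | insert a s ha ih => rw [Finset.sum_insert ha, Finset.sum_insert ha, hf.add_left, ih]

omit [DecidableEq ι] in
theorem sum_right (hf : Herm σ f) {κ : Type*} (s : Finset κ) (v : ι → F) (x : κ → ι → F) :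
    f v (∑ i ∈ s, x i) = ∑ i ∈ s, f v (x i) := by
  rw [hf.herm, hf.sum_left, map_sum]
  exact Finset.sum_congr rfl fun i _ => (hf.herm _ _).symm

theorem eq_formOfGram (hf : Herm σ f) (x y : ι → F) : f x y = formOfGram σ (gramMatrix f) x y := by
  have key : ∀ z : ι → F, z = ∑ i, z i • Pi.single i (1 : F) := fun z => pi_eq_sum_univ' z
  conv_lhs => rw [key x, key y, hf.sum_left]
  refine Finset.sum_congr rfl fun a _ => ?_
  rw [hf.sum_right]
  refine Finset.sum_congr rfl fun b _ => ?_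
  rw [hf.smul_left, hf.smul_right, gramMatrix]
  ring

end Herm

omit [DecidableEq ι] in
theorem formOfGram_eq (σ : F → F) (M : Matrix ι ι F) (x y : ι → F) :
    formOfGram σ M x y = x ⬝ᵥ (M *ᵥ (σ ∘ y)) := by
  simp only [formOfGram, dotProduct, Matrix.mulVec, Function.comp_apply, Finset.mul_sum, mul_assoc]

theorem gram_formOfGram (σ : F →+* F) (M : Matrix ι ι F) : gramMatrix (formOfGram σ M) = M := by
  ext a b
  show formOfGram σ M (Pi.single a 1) (Pi.single b 1) = M a b
  rw [formOfGram, Finset.sum_eq_single a, Finset.sum_eq_single b]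
  · simp
  · intro c _ hc; simp [hc]
  · simp
  · intro c _ hc; simp [hc]
  · simp

omit [DecidableEq ι] in
theorem herm_formOfGram (σ : F →+* F) (hσ : ∀ x, σ (σ x) = x) (M : Matrix ι ι F)
    (hM : ∀ a b, M b a = σ (M a b)) (hnd : ∀ v : ι → F, M *ᵥ (σ ∘ v) = 0 → v = 0) :
    Herm σ (formOfGram σ M) := by
  classical
  have hh : ∀ v w, formOfGram σ M v w = σ (formOfGram σ M w v) := by
    intro v w
    rw [formOfGram, formOfGram, map_sum, Finset.sum_comm]
    refine Finset.sum_congr rfl fun b _ => ?_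
    rw [map_sum]
    refine Finset.sum_congr rfl fun a _ => ?_
    rw [map_mul, map_mul, hσ, ← hM b a]
    ring
  refine ⟨hσ, fun x y v => ?_, fun c x v => ?_, hh, fun v hv => ?_⟩
  · simp only [formOfGram_eq, add_dotProduct]
  · simp only [formOfGram_eq, smul_dotProduct, smul_eq_mul]
  · obtain ⟨x, hx⟩ : ∃ x, formOfGram σ M x v ≠ 0 := by
      by_contra hc
      push Not at hc
      refine hv (hnd v (funext fun i => ?_))
      have := hc (Pi.single i 1)
      rwa [formOfGram_eq, single_dotProduct, one_mul] at this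
    exact ⟨⟨x, hx⟩, x, fun h => hx (by rw [hh, h, map_zero])⟩

/-- The form of an isometric homogeneous module is a tensor product of Hermitian forms. -/
theorem tensor_form {σ : F →+* F} (hne : ∃ t, σ t ≠ t) {f : (ι → F) → (ι → F) → F} (hf : Herm σ f)
    {N : Subgroup (GL ι F)}
    (hiso : ∀ g ∈ N, ∀ u v, f ((g : Matrix ι ι F) *ᵥ u) ((g : Matrix ι ι F) *ᵥ v) = f u v)
    {d k : ℕ} (hd : 0 < d) (hk : 0 < k) (A : N → Matrix (Fin d) (Fin d) F)
    (hirr : ∀ U : Submodule F (Fin d → F), (∀ n, ∀ u ∈ U, A n *ᵥ u ∈ U) → U = ⊥ ∨ U = ⊤)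
    (hscal : ∀ M : Matrix (Fin d) (Fin d) F, (∀ n, M * A n = A n * M) → ∃ c : F, M = c • 1)
    (φ : Fin k → (Fin d → F) →ₗ[F] (ι → F))
    (hequiv : ∀ j (n : N) x, ((n : GL ι F) : Matrix ι ι F) *ᵥ φ j x = φ j (A n *ᵥ x))
    (hbij : Function.Bijective (MaxTensor.assemble φ)) :
    ∃ (e : ι ≃ Fin d × Fin k) (P : GL ι F) (f₁ : (Fin d → F) → (Fin d → F) → F)
      (f₂ : (Fin k → F) → (Fin k → F) → F), Herm σ f₁ ∧ Herm σ f₂ ∧
      Cfsg.Geo.IsTensorFormStructure σ f f₁ f₂ e P ∧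
      ∀ h ∈ Subgroup.normalizer (N : Set (GL ι F)), h ∈ Cfsg.Geo.tensorProductSubgroup d k e P := by
  classical
  haveI : Nonempty (Fin d) := ⟨⟨0, hd⟩⟩
  set S := MaxTensor.assemble φ with hS
  let G : Fin k → Fin k → Matrix (Fin d) (Fin d) F := fun a b i j =>
    f (φ a (Pi.single i 1)) (φ b (Pi.single j 1))
  have hG : ∀ a b x y, f (φ a x) (φ b y) = formOfGram σ (G a b) x y := by
    intro a b x y
    conv_lhs => rw [pi_eq_sum_univ' x, pi_eq_sum_univ' y, map_sum, map_sum, hf.sum_left]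
    refine Finset.sum_congr rfl fun i _ => ?_
    rw [hf.sum_right]
    refine Finset.sum_congr rfl fun j _ => ?_
    rw [map_smul, map_smul, hf.smul_left, hf.smul_right]
    ring
  have hform : ∀ u w, f (S u) (S w) = ∑ a, ∑ b, formOfGram σ (G a b) (u a) (w b) := by
    intro u w
    simp only [hS, MaxTensor.assemble, LinearMap.coe_mk, AddHom.coe_mk, hf.sum_left]
    refine Finset.sum_congr rfl fun a _ => ?_
    rw [hf.sum_right]
    exact Finset.sum_congr rfl fun b _ => hG a b _ _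
  -- the Gram matrices twisted by `σ`
  let Gs : Fin k → Fin k → Matrix (Fin d) (Fin d) F := fun a b => (G a b).map σ
  have hAu : ∀ n, IsUnit (A n) := by
    intro n
    rw [← Matrix.mulVec_injective_iff_isUnit]
    intro u w huw
    have hinj : Function.Injective (φ ⟨0, hk⟩) := by
      intro u w h
      have h1 : S (Pi.single ⟨0, hk⟩ u) = S (Pi.single ⟨0, hk⟩ w) := by
        simp only [hS, MaxTensor.assemble, LinearMap.coe_mk, AddHom.coe_mk]
        refine Finset.sum_congr rfl fun j _ => ?_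
        by_cases hj : j = ⟨0, hk⟩
        · subst hj; simpa using h
        · simp [hj]
      simpa using congrFun (hbij.1 h1) ⟨0, hk⟩
    apply hinj
    apply Matrix.mulVec_injective_iff_isUnit.mpr (n : GL ι F).isUnit
    show _ *ᵥ φ _ u = _ *ᵥ φ _ w
    rw [hequiv, hequiv, huw]
  have hGinv : ∀ n a b, ((A n).map σ)ᵀ * Gs a b * A n = Gs a b := by
    intro n a b
    have h1 : (A n)ᵀ * G a b * (A n).map σ = G a b := by
      rw [← gram_formOfGram σ ((A n)ᵀ * G a b * (A n).map σ), ← gram_formOfGram σ (G a b)]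
      congr 1
      funext x y
      have hσy : σ ∘ (A n *ᵥ y) = (A n).map σ *ᵥ (σ ∘ y) := funext fun i => RingHom.map_mulVec σ _ _ _
      have := hiso _ n.2 (φ a x) (φ b y)
      rw [hequiv, hequiv, hG, hG] at this
      rw [gram_formOfGram, ← this, formOfGram_eq, formOfGram_eq, hσy, ← Matrix.mulVec_mulVec,
        ← Matrix.mulVec_mulVec, Matrix.dotProduct_mulVec, Matrix.vecMul_transpose]
    have hinv : (fun x => σ (σ x)) = id := funext hf.invol
    have h2 := congrArg (fun M : Matrix (Fin d) (Fin d) F => M.map σ) h1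
    simp only [Matrix.map_mul, ← Matrix.transpose_map] at h2
    rwa [Matrix.map_map, show ((σ : F → F) ∘ σ) = id from hinv, Matrix.map_id] at h2
  obtain ⟨a₀, b₀, hne0⟩ : ∃ a b, G a b ≠ 0 := by
    by_contra hc
    push Not at hc
    let u : Fin k → Fin d → F := fun _ _ => 1
    have hu : S u ≠ 0 := by
      intro h0
      have := hbij.1 (h0.trans (map_zero S).symm)
      exact one_ne_zero (congrFun (congrFun this ⟨0, hk⟩) ⟨0, hd⟩)
    obtain ⟨⟨x, hx⟩, -⟩ := hf.nondegenerate _ hu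
    obtain ⟨w, rfl⟩ := hbij.2 x
    rw [hform] at hx
    simp [hc, formOfGram] at hx
  have hker : ∀ y : Fin d → F, Gs a₀ b₀ *ᵥ y = 0 → y = 0 := by
    have hb := (hirr (LinearMap.ker (Matrix.toLin' (Gs a₀ b₀))) fun n u hu => ?_).resolve_right
      fun htop => hne0 ?_
    · intro y hy
      have : y ∈ LinearMap.ker (Matrix.toLin' (Gs a₀ b₀)) := by simpa using hy
      rwa [hb, Submodule.mem_bot] at this
    · rw [LinearMap.mem_ker, Matrix.toLin'_apply] at hu ⊢
      have hT : IsUnit (((A n).map σ)ᵀ) :=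
        (Matrix.isUnit_transpose _).mpr ((hAu n).map σ.mapMatrix)
      apply Matrix.mulVec_injective_iff_isUnit.mpr hT
      show _ *ᵥ (Gs a₀ b₀ *ᵥ (A n *ᵥ u)) = _ *ᵥ 0
      rw [Matrix.mulVec_mulVec, Matrix.mulVec_mulVec, hGinv, hu, Matrix.mulVec_zero]
    · have h0 : Gs a₀ b₀ = 0 := Matrix.toLin'.injective (by rw [map_zero]; exact LinearMap.ker_eq_top.1 htop)
      ext i j
      exact σ.injective (by simpa [Gs] using congrFun (congrFun h0 i) j)
  have hGu : IsUnit (Gs a₀ b₀) := by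
    rw [← Matrix.mulVec_injective_iff_isUnit]
    intro u w huw
    exact sub_eq_zero.mp (hker _ (by rw [Matrix.mulVec_sub]; exact sub_eq_zero.mpr huw))
  have hprop : ∀ a b, ∃ c : F, G a b = c • G a₀ b₀ := by
    intro a b
    obtain ⟨U, hU⟩ := hGu
    obtain ⟨c, hc⟩ := hscal (((U⁻¹ : GL (Fin d) F) : Matrix (Fin d) (Fin d) F) * Gs a b) fun n => by
      have hT : IsUnit (((A n).map σ)ᵀ) := (Matrix.isUnit_transpose _).mpr ((hAu n).map σ.mapMatrix)
      refine (hT.mul ⟨U, rfl⟩).mul_left_cancel ?_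
      calc ((A n).map σ)ᵀ * ↑U * (↑U⁻¹ * Gs a b * A n)
          = ((A n).map σ)ᵀ * Gs a b * A n := by simp [mul_assoc]
        _ = ↑U * (↑U⁻¹ * Gs a b) := by rw [hGinv]; simp
        _ = ((A n).map σ)ᵀ * ↑U * A n * (↑U⁻¹ * Gs a b) := by rw [hU, hGinv]
        _ = _ := by simp [mul_assoc]
    have hc' : Gs a b = c • Gs a₀ b₀ := by
      have := congrArg (fun M => (U : Matrix (Fin d) (Fin d) F) * M) hc
      rwa [← mul_assoc, Units.mul_inv, one_mul, mul_smul_comm, mul_one, hU] at this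
    refine ⟨σ c, Matrix.ext fun i j => ?_⟩
    have h3 := congrArg σ (congrFun (congrFun hc' i) j)
    simpa [Gs, hf.invol] using h3
  choose β hβ using hprop
  set μ := β b₀ a₀ with hμdef
  have hswap : ∀ a b i j, G b a j i = σ (G a b i j) := fun a b i j => hf.herm _ _
  have hμ : ∀ i j, μ * G a₀ b₀ j i = σ (G a₀ b₀ i j) := by
    intro i j
    rw [← hswap, hβ b₀ a₀]
    rfl
  obtain ⟨l, hl0, hl⟩ : ∃ l : F, l ≠ 0 ∧ σ l * μ = l := by
    obtain ⟨i, j, hij⟩ : ∃ i j, G a₀ b₀ i j ≠ 0 := by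
      by_contra hc
      push Not at hc
      exact hne0 (Matrix.ext hc)
    have hμσ : σ μ * μ = 1 := by
      have h4 := congrArg σ (hμ i j)
      rw [map_mul, hf.invol, ← hμ j i] at h4
      have : (σ μ * μ) * G a₀ b₀ i j = 1 * G a₀ b₀ i j := by rw [one_mul, mul_assoc]; exact h4
      exact mul_right_cancel₀ hij this
    by_cases hμ1 : ∀ t, t + μ * σ t = 0
    · exfalso
      obtain ⟨t, ht⟩ := hne
      have h1 : (1 : F) + μ * σ 1 = 0 := hμ1 1
      rw [map_one, mul_one] at h1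
      have hm : μ = -1 := by linear_combination h1
      have := hμ1 t
      rw [hm] at this
      exact ht (by linear_combination -this)
    · push Not at hμ1
      obtain ⟨t, ht⟩ := hμ1
      refine ⟨t + μ * σ t, ht, ?_⟩
      rw [map_add, map_mul, hf.invol]
      linear_combination t * hμσ
  let G₁ : Matrix (Fin d) (Fin d) F := l • G a₀ b₀
  let B : Matrix (Fin k) (Fin k) F := Matrix.of fun a b => β a b * l⁻¹
  have hGB : ∀ a b, G a b = B a b • G₁ := by
    intro a b
    rw [hβ a b]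
    simp only [B, G₁, Matrix.of_apply, smul_smul]
    congr 1
    field_simp
  have hG1 : ∀ i j, G₁ j i = σ (G₁ i j) := by
    intro i j
    simp only [G₁, Matrix.smul_apply, smul_eq_mul, map_mul, ← hμ]
    rw [← mul_assoc, hl]
  have hG1ne : ∃ i j, G₁ i j ≠ 0 := by
    by_contra hc
    push Not at hc
    refine hne0 (Matrix.ext fun i j => ?_)
    have := hc i j
    simpa [G₁, hl0] using this
  have hB : ∀ a b, B b a = σ (B a b) := by
    intro a b
    obtain ⟨i, j, hij⟩ := hG1ne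
    have h5 := hswap a b i j
    rw [hGB b a, hGB a b, Matrix.smul_apply, Matrix.smul_apply, smul_eq_mul, smul_eq_mul, map_mul,
      ← hG1] at h5
    refine mul_right_cancel₀ (b := G₁ j i) ?_ h5
    rw [hG1]
    exact fun h => hij (σ.injective (h.trans (map_zero σ).symm))
  have hf1 : Herm σ (formOfGram σ G₁) := by
    refine herm_formOfGram σ hf.invol G₁ hG1 fun y hy => hker y (funext fun i => ?_)
    have h6 : G a₀ b₀ *ᵥ (σ ∘ y) = 0 := by
      simpa [G₁, Matrix.smul_mulVec, hl0] using hy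
    have h7 := congrArg σ (congrFun h6 i)
    rw [RingHom.map_mulVec, Pi.zero_apply, map_zero] at h7
    simpa [Gs, Function.comp_def, hf.invol] using h7
  have hfull : ∀ u w, f (S u) (S w) = ∑ a, ∑ b, B a b * formOfGram σ G₁ (u a) (w b) := by
    intro u w
    rw [hform]
    refine Finset.sum_congr rfl fun a _ => Finset.sum_congr rfl fun b _ => ?_
    rw [hGB, formOfGram_eq, formOfGram_eq, Matrix.smul_mulVec, dotProduct_smul, smul_eq_mul]
  have hf2 : Herm σ (formOfGram σ B) := by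
    refine herm_formOfGram σ hf.invol B hB fun v hv => ?_
    by_contra hv0
    let y₀ : Fin d → F := fun _ => 1
    have hw : S (fun b => v b • y₀) ≠ 0 := by
      intro h0
      have h8 := hbij.1 (h0.trans (map_zero S).symm)
      exact hv0 (funext fun b => by simpa [y₀] using congrFun (congrFun h8 b) ⟨0, hd⟩)
    obtain ⟨⟨x, hx⟩, -⟩ := hf.nondegenerate _ hw
    obtain ⟨u, rfl⟩ := hbij.2 x
    apply hx
    rw [hfull]
    refine Finset.sum_eq_zero fun a _ => ?_
    simp only [hf1.smul_right, ← mul_assoc, ← Finset.sum_mul]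
    have h9 : ∑ b, B a b * σ (v b) = 0 := congrFun hv a
    rw [h9, zero_mul]
  obtain ⟨e, P, hP, hn⟩ := MaxTensor.normalizer_le_tensor_coord A hirr hscal φ hequiv hbij
  refine ⟨e, P, _, _, hf1, hf2, ⟨1, one_ne_zero, fun x y => ?_⟩, hn⟩
  rw [hP, hP, hfull, one_mul, gram_formOfGram, gram_formOfGram]
  simp only [formOfGram, Fintype.sum_prod_type, Finset.mul_sum, Matrix.kroneckerMap_apply]
  rw [Finset.sum_comm (γ := Fin d)]
  refine Finset.sum_congr rfl fun a _ => ?_
  rw [Finset.sum_comm (γ := Fin k)]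
  refine Finset.sum_congr rfl fun i _ => ?_
  rw [Finset.sum_comm (γ := Fin d)]
  exact Finset.sum_congr rfl fun b _ => Finset.sum_congr rfl fun j _ => by ring

omit [DecidableEq ι] in
theorem formOfGram_swap {n₁ n₂ : ℕ} (σ : F → F) (G₁ : Matrix (Fin n₁) (Fin n₁) F)
    (G₂ : Matrix (Fin n₂) (Fin n₂) F) (x y : Fin n₂ × Fin n₁ → F) :
    formOfGram σ (G₁ ⊗ₖ G₂) (x ∘ Prod.swap) (y ∘ Prod.swap) = formOfGram σ (G₂ ⊗ₖ G₁) x y := by
  simp only [formOfGram]
  refine Fintype.sum_equiv (Equiv.prodComm _ _) _ _ fun p => ?_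
  refine Fintype.sum_equiv (Equiv.prodComm _ _) _ _ fun r => ?_
  simp only [Equiv.prodComm_apply, Function.comp_apply, Matrix.kroneckerMap_apply, Prod.fst_swap,
    Prod.snd_swap]
  ring

/-- The two factors of a tensor decomposition may be exchanged. -/
theorem tensorStructure_swap {σ : F → F} {f : (ι → F) → (ι → F) → F} {n₁ n₂ : ℕ}
    {f₁ : (Fin n₁ → F) → (Fin n₁ → F) → F} {f₂ : (Fin n₂ → F) → (Fin n₂ → F) → F}
    {e : ι ≃ Fin n₁ × Fin n₂} {P : GL ι F}
    (h : Cfsg.Geo.IsTensorFormStructure σ f f₁ f₂ e P) :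
    Cfsg.Geo.IsTensorFormStructure σ f f₂ f₁ (e.trans (Equiv.prodComm _ _)) P := by
  obtain ⟨c, hc, hh⟩ := h
  refine ⟨c, hc, fun x y => ?_⟩
  have := hh (x ∘ Prod.swap) (y ∘ Prod.swap)
  rw [formOfGram_swap] at this
  exact this

theorem tensorProductSubgroup_swap {n₁ n₂ : ℕ} (e : ι ≃ Fin n₁ × Fin n₂) (P : GL ι F) :
    Cfsg.Geo.tensorProductSubgroup n₁ n₂ e P ≤
      Cfsg.Geo.tensorProductSubgroup n₂ n₁ (e.trans (Equiv.prodComm _ _)) P := by
  rintro _ ⟨_, ⟨K, ⟨a, b, hK⟩, rfl⟩, rfl⟩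
  refine ⟨_, ⟨Cfsg.Geo.glReindex (Equiv.prodComm _ _) K, ⟨b, a, ?_⟩, rfl⟩, ?_⟩
  · show Matrix.reindex (Equiv.prodComm _ _) (Equiv.prodComm _ _) K.1 = _
    rw [hK]
    ext p r
    simp [mul_comm]
  · congr 1

/-- Pure tensors. -/
def pure {n₁ n₂ : ℕ} (u : Fin n₁ → F) : (Fin n₂ → F) →ₗ[F] (Fin n₁ × Fin n₂ → F) where
  toFun y p := u p.1 * y p.2
  map_add' y z := by funext p; simp [mul_add]
  map_smul' c y := by funext p; simp [mul_left_comm]

theorem kronecker_pure {n₁ n₂ : ℕ} (a : Matrix (Fin n₁) (Fin n₁) F) (b : Matrix (Fin n₂) (Fin n₂) F)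
    (u : Fin n₁ → F) (y : Fin n₂ → F) : (a ⊗ₖ b) *ᵥ pure u y = pure (a *ᵥ u) (b *ᵥ y) := by
  funext p
  simp only [pure, LinearMap.coe_mk, AddHom.coe_mk, Matrix.mulVec, dotProduct, Fintype.sum_prod_type,
    Matrix.kroneckerMap_apply, Finset.sum_mul, Finset.mul_sum]
  exact Finset.sum_congr rfl fun i _ => Finset.sum_congr rfl fun j _ => by ring

theorem formOfGram_pure {n₁ n₂ : ℕ} (σ : F →+* F) (G₁ : Matrix (Fin n₁) (Fin n₁) F)
    (G₂ : Matrix (Fin n₂) (Fin n₂) F) (u u' : Fin n₁ → F) (y y' : Fin n₂ → F) :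
    formOfGram σ (G₁ ⊗ₖ G₂) (pure u y) (pure u' y') =
      formOfGram σ G₁ u u' * formOfGram σ G₂ y y' := by
  simp only [formOfGram]
  rw [Finset.sum_mul_sum, Fintype.sum_prod_type]
  refine Finset.sum_congr rfl fun i _ => Finset.sum_congr rfl fun a _ => ?_
  rw [Fintype.sum_prod_type, Finset.sum_mul_sum]
  refine Finset.sum_congr rfl fun j _ => Finset.sum_congr rfl fun b _ => ?_
  simp only [pure, LinearMap.coe_mk, AddHom.coe_mk, Matrix.kroneckerMap_apply, map_mul]
  ring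

omit [DecidableEq ι] in
/-- A Hermitian form which is non-degenerate on `W` has an anisotropic vector in `W`. -/
theorem exists_anisotropic {σ : F →+* F} (hne : ∃ t, σ t ≠ t) {f : (ι → F) → (ι → F) → F}
    (hf : Herm σ f) {W : Submodule F (ι → F)} (hW : Cfsg.Geo.IsNondegenerateOn f W) (hW0 : W ≠ ⊥) :
    ∃ v ∈ W, f v v ≠ 0 := by
  by_contra hc
  push Not at hc
  obtain ⟨w, hw, hw0⟩ := W.ne_bot_iff.mp hW0
  obtain ⟨⟨u, hu, huw⟩, -⟩ := hW w hw hw0
  obtain ⟨t, ht⟩ := hne
  have key : ∀ s : F, s + σ s = 0 := by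
    intro s
    have h := hc ((s / f u w) • u + w) (W.add_mem (W.smul_mem _ hu) hw)
    rw [hf.add_left, hf.add_right, hf.add_right, hf.smul_left, hf.smul_left, hf.smul_right,
      hf.smul_right, hc u hu, hc w hw, hf.herm w u, ← map_mul, div_mul_cancel₀ s huw] at h
    linear_combination h
  have h1 := key 1
  rw [map_one] at h1
  exact ht (by linear_combination key t - t * h1)

/-- Over four elements a non-degenerate plane has just two anisotropic lines. -/
theorem frame [Fintype F] (hF : Fintype.card F = 4) {σ : F →+* F} (hσ : ∀ x, σ x = x ^ 2)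
    {f : (ι → F) → (ι → F) → F} (hf : Herm σ f) {W : Submodule F (ι → F)}
    (hW : Cfsg.Geo.IsNondegenerateOn f W) (h2 : finrank F W = 2) :
    ∃ v : Fin 2 → ι → F, (∀ i, v i ∈ W) ∧ (∀ i, f (v i) (v i) = 1) ∧
      (∀ i j, i ≠ j → f (v i) (v j) = 0) ∧ ∀ w ∈ W, f w w ≠ 0 → ∃ i, ∃ a : F, w = a • v i := by
  classical
  have h4 : ∀ x : F, x ^ 4 = x := fun x => by rw [← hF]; exact FiniteField.pow_card x
  have h3 : ∀ x : F, x ≠ 0 → x ^ 3 = 1 := fun x hx => mul_left_cancel₀ hx (by rw [mul_one, ← pow_succ', h4])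
  have hchar : (1 : F) + 1 = 0 := by
    have : ((Fintype.card F : ℕ) : F) = 0 := FiniteField.cast_card_eq_zero F
    rw [hF] at this
    have h22 : ((1 : F) + 1) * (1 + 1) = 0 := by push_cast at this; linear_combination this
    exact (mul_eq_zero.mp h22).elim id id
  have hne : ∃ t, σ t ≠ t := by
    by_contra hc
    push Not at hc
    have hsub : (Finset.univ : Finset F) ⊆ {0, 1} := by
      intro x _
      have h := hc x
      rw [hσ, sq] at h
      rcases eq_or_ne x 0 with h0 | h0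
      · simp [h0]
      · simp [mul_left_cancel₀ h0 (h.trans (mul_one x).symm)]
    have := Finset.card_le_card hsub
    rw [Finset.card_univ, hF] at this
    simp at this
  have hone : ∀ v, f v v ≠ 0 → f v v = 1 := by
    intro v hv
    have h := hf.herm v v
    rw [hσ, sq] at h
    exact (mul_left_cancel₀ hv (h.symm.trans (mul_one _).symm))
  have hW0 : W ≠ ⊥ := by rintro rfl; simp at h2
  obtain ⟨v₀, hv₀, hne₀⟩ := exists_anisotropic hne hf hW hW0
  have h00 := hone _ hne₀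
  obtain ⟨u, hu, hunot⟩ : ∃ u ∈ W, u ∉ F ∙ v₀ := by
    by_contra hc
    push Not at hc
    have hle := Submodule.finrank_mono (show W ≤ F ∙ v₀ from hc)
    have := finrank_span_le_card (R := F) ({v₀} : Set (ι → F))
    simp at this
    omega
  set v₁ := u - f u v₀ • v₀ with hv₁def
  have hv₁ : v₁ ∈ W := W.sub_mem hu (W.smul_mem _ hv₀)
  have h10 : f v₁ v₀ = 0 := by
    rw [hv₁def, sub_eq_add_neg, ← neg_smul, hf.add_left, hf.smul_left, h00]; ring
  have h01 : f v₀ v₁ = 0 := by rw [hf.herm, h10, map_zero]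
  have hv₁0 : v₁ ∉ F ∙ v₀ := fun h => hunot (by
    have := (F ∙ v₀).add_mem h ((F ∙ v₀).smul_mem (f u v₀) (Submodule.mem_span_singleton_self v₀))
    rwa [hv₁def, sub_add_cancel] at this)
  have hspan : Submodule.span F {v₀, v₁} = W := by
    refine Submodule.eq_of_le_of_finrank_le (Submodule.span_le.mpr (by
      intro x hx
      rcases hx with rfl | rfl <;> assumption)) ?_
    rw [h2]
    have hli : LinearIndependent F ![v₀, v₁] := by
      rw [LinearIndependent.pair_iff]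
      intro s t hst
      by_cases ht : t = 0
      · subst ht
        refine ⟨?_, rfl⟩
        by_contra hs
        rw [zero_smul, add_zero, smul_eq_zero] at hst
        exact hne₀ (by rw [hst.resolve_left hs, hf.zero_left])
      · exfalso
        refine hv₁0 (Submodule.mem_span_singleton.mpr ⟨-(s / t), ?_⟩)
        have : t • v₁ = -(s • v₀) := eq_neg_of_add_eq_zero_right hst
        calc (-(s / t)) • v₀ = t⁻¹ • (-(s • v₀)) := by
              rw [smul_neg, smul_smul, neg_smul, div_eq_inv_mul]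
          _ = v₁ := by rw [← this, smul_smul, inv_mul_cancel₀ ht, one_smul]
    have h := finrank_span_eq_card hli
    rw [Fintype.card_fin, Matrix.range_cons, Matrix.range_cons, Matrix.range_empty, Set.union_empty,
      Set.singleton_union] at h
    exact h.ge
  have hne₁ : f v₁ v₁ ≠ 0 := by
    intro h0
    have hv : v₁ ≠ 0 := fun h => hv₁0 (h ▸ zero_mem _)
    obtain ⟨⟨x, hx, hxv⟩, -⟩ := hW v₁ hv₁ hv
    rw [← hspan, Submodule.mem_span_pair] at hx
    obtain ⟨s, t, rfl⟩ := hx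
    exact hxv (by rw [hf.add_left, hf.smul_left, hf.smul_left, h01, h0]; ring)
  have h11 := hone _ hne₁
  refine ⟨![v₀, v₁], fun i => by fin_cases i <;> simpa, fun i => by fin_cases i <;> simpa,
    fun i j hij => by fin_cases i <;> fin_cases j <;> first | exact (hij rfl).elim | assumption,
    fun w hw hww => ?_⟩
  rw [← hspan, Submodule.mem_span_pair] at hw
  obtain ⟨s, t, rfl⟩ := hw
  rcases eq_or_ne s 0 with hs | hs
  · exact ⟨1, t, by simp [hs]⟩
  rcases eq_or_ne t 0 with ht | ht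
  · exact ⟨0, s, by simp [ht]⟩
  exfalso
  apply hww
  rw [hf.add_left, hf.add_right, hf.add_right, hf.smul_left, hf.smul_left, hf.smul_left, hf.smul_left,
    hf.smul_right, hf.smul_right, hf.smul_right, hf.smul_right, h00, h01, h10, h11, hσ, hσ]
  linear_combination h3 s hs + h3 t ht + hchar

section Unitary

variable [Fintype F] {n q : ℕ}

theorem herm_hermForm (hF : Fintype.card F = q ^ 2) :
    Herm (Geometry.frobQ hF) (Cfsg.hermForm n F q) where
  invol := Geometry.frobQ_frobQ hF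
  add_left := UnitPrimeDim.herm_add_left
  smul_left := UnitPrimeDim.herm_smul_left
  herm v w := (UnitPrimeDim.herm_symm hF w v).symm
  nondegenerate v hv := by
    obtain ⟨x, hx⟩ : ∃ x, Cfsg.hermForm n F q x v ≠ 0 := by
      by_contra hc
      push Not at hc
      exact hv (UnitPrimeDim.herm_nondeg hF hc)
    exact ⟨⟨x, hx⟩, x, fun h => hx (UnitPrimeDim.herm_eq_zero_symm hF h)⟩

theorem Herm.isUnitaryFormPow {κ : Type} [Fintype κ] (hF : Fintype.card F = q ^ 2)
    {f : (κ → F) → (κ → F) → F} (h : Herm (Geometry.frobQ hF) f) : Cfsg.Geo.IsUnitaryFormPow q f :=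
  ⟨h.add_left, h.smul_left, h.herm, h.nondegenerate⟩

theorem herm_of_pow {κ : Type} [Fintype κ] (hF : Fintype.card F = q ^ 2)
    {f : (κ → F) → (κ → F) → F} (h : Cfsg.Geo.IsUnitaryFormPow q f) : Herm (Geometry.frobQ hF) f :=
  ⟨Geometry.frobQ_frobQ hF, h.add_left, h.smul_left, h.herm, h.nondegenerate⟩

/-- A homogeneous normal subgroup of a unitary group yields a tensor decomposition of the form. -/
theorem tensor (hF : Fintype.card F = q ^ 2) {H N : Subgroup (GL (Fin n) F)}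
    (hH : H ≤ Cfsg.GU n F q) (hNH : N ≤ H) (hnorm : ∀ h ∈ H, ∀ x ∈ N, h * x * h⁻¹ ∈ N)
    {d k : ℕ} (hd : 0 < d) (hk : 0 < k) (A : N → Matrix (Fin d) (Fin d) F)
    (hirr : ∀ U : Submodule F (Fin d → F), (∀ n, ∀ u ∈ U, A n *ᵥ u ∈ U) → U = ⊥ ∨ U = ⊤)
    (hscal : ∀ M : Matrix (Fin d) (Fin d) F, (∀ n, M * A n = A n * M) → ∃ c : F, M = c • 1)
    (φ : Fin k → (Fin d → F) →ₗ[F] (Fin n → F))
    (hequiv : ∀ j (m : N) x, ((m : GL (Fin n) F) : Matrix (Fin n) (Fin n) F) *ᵥ φ j x = φ j (A m *ᵥ x))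
    (hbij : Function.Bijective (MaxTensor.assemble φ)) :
    ∃ (e : Fin n ≃ Fin d × Fin k) (P : GL (Fin n) F) (f₁ : (Fin d → F) → (Fin d → F) → F)
      (f₂ : (Fin k → F) → (Fin k → F) → F), Cfsg.Geo.IsUnitaryFormPow q f₁ ∧
      Cfsg.Geo.IsUnitaryFormPow q f₂ ∧
      Cfsg.Geo.IsTensorFormStructure (fun x : F => x ^ q) (Cfsg.hermForm n F q) f₁ f₂ e P ∧
      H ≤ Cfsg.Geo.tensorProductSubgroup d k e P := by
  obtain ⟨e, P, f₁, f₂, h₁, h₂, hs, hn⟩ :=
    tensor_form (Geometry.exists_pow_ne_self hF) (herm_hermForm hF) (fun g hg u v => hH (hNH hg) u v)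
      hd hk A hirr hscal φ hequiv hbij
  refine ⟨e, P, f₁, f₂, h₁.isUnitaryFormPow hF, h₂.isUnitaryFormPow hF, hs, fun h hh => hn h ?_⟩
  rw [Subgroup.mem_normalizer_iff]
  intro x
  refine ⟨fun hx => hnorm h hh x hx, fun hx => ?_⟩
  have := hnorm h⁻¹ (H.inv_mem hh) _ hx
  simpa [mul_assoc] using this

/-- As `tensor`, with the two factors exchanged. -/
theorem tensor_swap (hF : Fintype.card F = q ^ 2) {H N : Subgroup (GL (Fin n) F)}
    (hH : H ≤ Cfsg.GU n F q) (hNH : N ≤ H) (hnorm : ∀ h ∈ H, ∀ x ∈ N, h * x * h⁻¹ ∈ N)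
    {d k : ℕ} (hd : 0 < d) (hk : 0 < k) (A : N → Matrix (Fin d) (Fin d) F)
    (hirr : ∀ U : Submodule F (Fin d → F), (∀ n, ∀ u ∈ U, A n *ᵥ u ∈ U) → U = ⊥ ∨ U = ⊤)
    (hscal : ∀ M : Matrix (Fin d) (Fin d) F, (∀ n, M * A n = A n * M) → ∃ c : F, M = c • 1)
    (φ : Fin k → (Fin d → F) →ₗ[F] (Fin n → F))
    (hequiv : ∀ j (m : N) x, ((m : GL (Fin n) F) : Matrix (Fin n) (Fin n) F) *ᵥ φ j x = φ j (A m *ᵥ x))
    (hbij : Function.Bijective (MaxTensor.assemble φ)) :
    ∃ (e : Fin n ≃ Fin k × Fin d) (P : GL (Fin n) F) (f₁ : (Fin k → F) → (Fin k → F) → F)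
      (f₂ : (Fin d → F) → (Fin d → F) → F), Cfsg.Geo.IsUnitaryFormPow q f₁ ∧
      Cfsg.Geo.IsUnitaryFormPow q f₂ ∧
      Cfsg.Geo.IsTensorFormStructure (fun x : F => x ^ q) (Cfsg.hermForm n F q) f₁ f₂ e P ∧
      H ≤ Cfsg.Geo.tensorProductSubgroup k d e P := by
  obtain ⟨e, P, f₁, f₂, h₁, h₂, hs, hn⟩ := tensor hF hH hNH hnorm hd hk A hirr hscal φ hequiv hbij
  exact ⟨_, P, f₂, f₁, h₂, h₁, tensorStructure_swap hs, hn.trans (tensorProductSubgroup_swap e P)⟩

/-- Over four elements a tensor decomposition with a 2-dimensional factor gives an orthogonal sum. -/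
theorem tensor_two_le_decomposition (hF : Fintype.card F = q ^ 2) (hq : q = 2) {k : ℕ} (hk : 0 < k)
    {e : Fin n ≃ Fin 2 × Fin k} {P : GL (Fin n) F}
    {f₁ : (Fin 2 → F) → (Fin 2 → F) → F} {f₂ : (Fin k → F) → (Fin k → F) → F}
    (h₁ : Cfsg.Geo.IsUnitaryFormPow q f₁) (h₂ : Cfsg.Geo.IsUnitaryFormPow q f₂)
    (hs : Cfsg.Geo.IsTensorFormStructure (fun x : F => x ^ q) (Cfsg.hermForm n F q) f₁ f₂ e P) :
    ∃ D : Fin 2 → Submodule F (Fin n → F),
      Cfsg.Geo.IsNondegenerateMDecomposition (Cfsg.hermForm n F q) k D ∧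
      Cfsg.Geo.tensorProductSubgroup 2 k e P ⊓ Cfsg.GU n F q ≤ Cfsg.Geo.decompositionStabilizer D := by
  classical
  subst hq
  have hh := herm_hermForm (n := n) hF
  have g₁ := herm_of_pow hF h₁
  have g₂ := herm_of_pow hF h₂
  obtain ⟨c, hc, hform⟩ := hs
  have htop₁ : Cfsg.Geo.IsNondegenerateOn f₁ ⊤ := fun w _ hw =>
    ⟨(g₁.nondegenerate w hw).1.imp fun x hx => ⟨trivial, hx⟩,
      (g₁.nondegenerate w hw).2.imp fun x hx => ⟨trivial, hx⟩⟩
  obtain ⟨v, -, hv1, hv0, hframe⟩ := frame (by rw [hF]; norm_num) (Geometry.frobQ_apply hF) g₁ htop₁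
    (by simp)
  let L : (Fin 2 → F) → (Fin k → F) →ₗ[F] (Fin n → F) := fun u =>
    Matrix.toLin' (P : Matrix (Fin n) (Fin n) F) ∘ₗ LinearMap.funLeft F F e ∘ₗ pure u
  have hL : ∀ u y, L u y = (P : Matrix (Fin n) (Fin n) F) *ᵥ (pure u y ∘ e) := fun _ _ => rfl
  have hLf : ∀ u u' y y', Cfsg.hermForm n F 2 (L u y) (L u' y') = c * (f₁ u u' * f₂ y y') := by
    intro u u' y y'
    rw [hL, hL, hform, g₁.eq_formOfGram, g₂.eq_formOfGram]
    exact congrArg (c * ·) (formOfGram_pure (Geometry.frobQ hF) _ _ u u' y y')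
  have hinj : ∀ i, Function.Injective (L (v i)) := by
    intro i y z hyz
    by_contra hne
    obtain ⟨⟨x, hx⟩, -⟩ := g₂.nondegenerate (y - z) (sub_ne_zero.mpr hne)
    have h0 : L (v i) (y - z) = 0 := by rw [map_sub, hyz, sub_self]
    have := hLf (v i) (v i) x (y - z)
    rw [h0, hh.zero_right, hv1, one_mul] at this
    exact mul_ne_zero hc hx this.symm
  let D : Fin 2 → Submodule F (Fin n → F) := fun i => LinearMap.range (L (v i))
  have hdim : ∀ i, finrank F (D i) = k := fun i => by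
    rw [LinearMap.finrank_range_of_inj (hinj i)]; simp
  have horth : ∀ i j, i ≠ j → Cfsg.Geo.AreOrthogonalFor (Cfsg.hermForm n F 2) (D i) (D j) := by
    rintro i j hij _ ⟨y, rfl⟩ _ ⟨z, rfl⟩
    rw [hLf, hv0 i j hij]; ring
  have hnd : ∀ i, Cfsg.Geo.IsNondegenerateOn (Cfsg.hermForm n F 2) (D i) := by
    rintro i _ ⟨y, rfl⟩ hy
    obtain ⟨⟨x, hx⟩, -⟩ := g₂.nondegenerate y fun h => hy (by rw [h, map_zero])
    have h : Cfsg.hermForm n F 2 (L (v i) x) (L (v i) y) ≠ 0 := by
      rw [hLf, hv1, one_mul]; exact mul_ne_zero hc hx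
    exact ⟨⟨_, ⟨x, rfl⟩, h⟩, _, ⟨x, rfl⟩, fun h' => h (by rw [hh.herm, h', map_zero])⟩
  have hdisj : ∀ i j, i ≠ j → D i ⊓ D j = ⊥ := by
    intro i j hij
    rw [Submodule.eq_bot_iff]
    intro x hx
    by_contra hx0
    obtain ⟨⟨y, hy, hyx⟩, -⟩ := hnd i x hx.1 hx0
    exact hyx (horth i j hij y hy x hx.2)
  have hcard : 2 * k = n := by simpa using (Fintype.card_congr e).symm
  have htop : D 0 ⊔ D 1 = ⊤ := by
    apply Submodule.eq_top_of_finrank_eq
    have := Submodule.finrank_sup_add_finrank_inf_eq (D 0) (D 1)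
    rw [hdisj 0 1 (by decide), finrank_bot, hdim, hdim] at this
    rw [Module.finrank_fin_fun]
    omega
  refine ⟨D, ⟨⟨le_rfl, hk, hdim, ?_, ?_⟩, hnd, horth⟩, ?_⟩
  · rw [iSupIndep_pair (i := (0 : Fin 2)) (j := 1) (by decide) (by intro x; fin_cases x <;> simp)]
    exact disjoint_iff.mpr (hdisj 0 1 (by decide))
  · exact top_le_iff.mp (htop ▸ sup_le (le_iSup D 0) (le_iSup D 1))
  intro h hh'
  obtain ⟨⟨_, ⟨K, ⟨a, b, hK⟩, rfl⟩, hP⟩, hGU⟩ := hh'
  have hact : ∀ u y, (h : Matrix (Fin n) (Fin n) F) *ᵥ L u y =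
      L ((a : Matrix (Fin 2) (Fin 2) F) *ᵥ u) ((b : Matrix (Fin k) (Fin k) F) *ᵥ y) := by
    intro u y
    have hP' : P * Cfsg.Geo.glReindex e.symm K = h * P := mul_inv_eq_iff_eq_mul.mp hP
    rw [hL, hL, Matrix.mulVec_mulVec, ← Units.val_mul, ← hP', Units.val_mul, ← Matrix.mulVec_mulVec,
      ← kronecker_pure, ← hK]
    congr 1
    show Matrix.reindex e.symm e.symm (K : Matrix _ _ F) *ᵥ _ = _
    rw [Matrix.reindex_apply, Equiv.symm_symm, Matrix.submatrix_mulVec_equiv, Function.comp_assoc,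
      Equiv.self_comp_symm, Function.comp_id]
  obtain ⟨y₀, -, hy₀⟩ : ∃ y ∈ (⊤ : Submodule F (Fin k → F)), f₂ y y ≠ 0 := by
    refine exists_anisotropic (Geometry.exists_pow_ne_self hF) g₂ (fun w _ hw =>
      ⟨(g₂.nondegenerate w hw).1.imp fun x hx => ⟨trivial, hx⟩,
        (g₂.nondegenerate w hw).2.imp fun x hx => ⟨trivial, hx⟩⟩) ?_
    haveI : Nonempty (Fin k) := ⟨⟨0, hk⟩⟩
    exact top_ne_bot
  have hmove : ∀ i, ∃ j, ∃ s : F, s ≠ 0 ∧ (a : Matrix (Fin 2) (Fin 2) F) *ᵥ v i = s • v j := by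
    intro i
    have hne : f₁ ((a : Matrix (Fin 2) (Fin 2) F) *ᵥ v i) ((a : Matrix (Fin 2) (Fin 2) F) *ᵥ v i) ≠ 0 := by
      intro h0
      have := hGU (L (v i) y₀) (L (v i) y₀)
      change Cfsg.hermForm n F 2 ((h : Matrix (Fin n) (Fin n) F) *ᵥ _) ((h : Matrix (Fin n) (Fin n) F) *ᵥ _) = _ at this
      rw [hact, hLf, hLf, h0, hv1, zero_mul, mul_zero, one_mul] at this
      exact mul_ne_zero hc hy₀ this.symm
    obtain ⟨j, s, hs⟩ := hframe _ trivial hne
    refine ⟨j, s, fun h0 => hne ?_, hs⟩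
    rw [hs, h0, zero_smul, g₁.zero_left]
  choose π s hs0 hs using hmove
  have hπ : Function.Injective π := by
    intro i j hij
    by_contra hne
    have h1 : (a : Matrix (Fin 2) (Fin 2) F) *ᵥ (s j • v i) = (a : Matrix (Fin 2) (Fin 2) F) *ᵥ (s i • v j) := by
      rw [Matrix.mulVec_smul, Matrix.mulVec_smul, hs, hs, hij, smul_smul, smul_smul, mul_comm]
    have h2 := congrArg (fun w => f₁ w (v i)) (Matrix.mulVec_injective_iff_isUnit.mpr a.isUnit h1)
    rw [g₁.smul_left, g₁.smul_left, hv1, hv0 j i (Ne.symm hne)] at h2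
    exact hs0 j (by simpa using h2)
  refine ⟨Equiv.ofBijective π (Finite.injective_iff_bijective.mp hπ), fun i => ?_⟩
  rw [Equiv.ofBijective_apply]
  refine Submodule.eq_of_le_of_finrank_eq ?_ ?_
  · rintro _ ⟨_, ⟨y, rfl⟩, rfl⟩
    refine ⟨s i • ((b : Matrix (Fin k) (Fin k) F) *ᵥ y), ?_⟩
    rw [Matrix.toLin'_apply, hact, hs]
    funext p
    simp only [hL]
    congr 2
    funext r
    simp [pure, mul_comm, mul_left_comm]
  · rw [← (Submodule.equivMapOfInjective _ (fun x y hxy => Matrix.mulVec_injective_iff_isUnit.mpr h.isUnit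
      (by simpa [Matrix.toLin'_apply] using hxy)) (D i)).finrank_eq, hdim, hdim]

/-- Over four elements an orthogonal sum of non-degenerate planes refines canonically into lines. -/
theorem decomposition_two_le_lines (hF : Fintype.card F = q ^ 2) (hq : q = 2) {m : ℕ}
    {D : Fin m → Submodule F (Fin n → F)}
    (hD : Cfsg.Geo.IsNondegenerateMDecomposition (Cfsg.hermForm n F q) 2 D) :
    ∃ E : Fin n → Submodule F (Fin n → F),
      Cfsg.Geo.IsNondegenerateMDecomposition (Cfsg.hermForm n F q) 1 E ∧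
      Cfsg.Geo.decompositionStabilizer D ⊓ Cfsg.GU n F q ≤ Cfsg.Geo.decompositionStabilizer E := by
  classical
  subst hq
  have hh := herm_hermForm (n := n) hF
  set f := Cfsg.hermForm n F 2 with hfdef
  have hfr := fun i => frame (by rw [hF]; norm_num) (Geometry.frobQ_apply hF) hh (hD.nondegenerate i)
    (hD.decomp.finrank_eq i)
  choose v hvW hv1 hv0 hframe using hfr
  let w : Fin m × Fin 2 → Fin n → F := fun p => v p.1 p.2
  have hw : ∀ p r, p ≠ r → f (w p) (w r) = 0 := by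
    rintro ⟨i, a⟩ ⟨j, b⟩ hne
    rcases eq_or_ne i j with rfl | hij
    · exact hv0 i a b fun h => hne (by rw [h])
    · exact hD.orthogonal i j hij _ (hvW i a) _ (hvW j b)
  have hw1 : ∀ p, f (w p) (w p) = 1 := fun p => hv1 p.1 p.2
  have hli : LinearIndependent F w := by
    rw [Fintype.linearIndependent_iff]
    intro g hg p
    have h := congrArg (fun x => f x (w p)) hg
    simp only [hh.sum_left, hh.smul_left, hh.zero_left] at h
    rw [Finset.sum_eq_single p (fun r _ hr => by rw [hw r p hr, mul_zero])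
      (fun h' => absurd (Finset.mem_univ p) h'), hw1, mul_one] at h
    exact h
  have hspanD : ∀ i, D i = Submodule.span F (Set.range (v i)) := by
    intro i
    refine (Submodule.eq_of_le_of_finrank_le (Submodule.span_le.mpr (by rintro _ ⟨a, rfl⟩; exact hvW i a)) ?_).symm
    have h := finrank_span_eq_card (hli.comp (fun a : Fin 2 => (i, a)) (fun a b h => (Prod.mk.inj h).2))
    rw [Fintype.card_fin] at h
    rw [hD.decomp.finrank_eq]
    exact h.ge
  have hspan : Submodule.span F (Set.range w) = ⊤ := by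
    rw [← top_le_iff, ← hD.decomp.iSup_eq_top, iSup_le_iff]
    intro i
    rw [hspanD]
    exact Submodule.span_mono (by rintro _ ⟨a, rfl⟩; exact ⟨(i, a), rfl⟩)
  have hcard : Fintype.card (Fin m × Fin 2) = n := by
    have h := finrank_span_eq_card hli
    rw [hspan, finrank_top, Module.finrank_fin_fun] at h
    exact h.symm
  let e : Fin n ≃ Fin m × Fin 2 := (Fintype.equivFinOfCardEq hcard).symm
  let E : Fin n → Submodule F (Fin n → F) := fun s => F ∙ w (e s)
  have hw0 : ∀ p, w p ≠ 0 := fun p => hli.ne_zero p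
  have hm : 2 ≤ n := by
    have := hD.decomp.two_le
    simp at hcard
    omega
  refine ⟨E, ⟨⟨hm, one_pos, fun s => finrank_span_singleton (hw0 _), ?_, ?_⟩, ?_, ?_⟩, ?_⟩
  · exact ((hli.comp e e.injective).iSupIndep_span_singleton)
  · rw [eq_top_iff, ← hspan, Submodule.span_le]
    rintro _ ⟨p, rfl⟩
    exact Submodule.mem_iSup_of_mem (e.symm p)
      (by simpa [E] using Submodule.mem_span_singleton_self (R := F) (w p))
  · intro s x hx hx0
    obtain ⟨c, rfl⟩ := Submodule.mem_span_singleton.mp hx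
    have hc : c ≠ 0 := fun h => hx0 (by rw [h, zero_smul])
    refine ⟨⟨w (e s), Submodule.mem_span_singleton_self _, ?_⟩, w (e s), Submodule.mem_span_singleton_self _, ?_⟩
    · rw [hh.smul_right, hw1, mul_one]
      exact fun h => hc ((Geometry.frobQ hF).injective (h.trans (map_zero _).symm))
    · rw [hh.smul_left, hw1, mul_one]; exact hc
  · intro s r hsr x hx y hy
    obtain ⟨a, rfl⟩ := Submodule.mem_span_singleton.mp hx
    obtain ⟨b, rfl⟩ := Submodule.mem_span_singleton.mp hy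
    rw [hh.smul_left, hh.smul_right, hw _ _ (e.injective.ne hsr)]
    ring
  rintro h ⟨⟨σ, hσ⟩, hGU⟩
  have hmove : ∀ p, ∃ r, ∃ a : F, (h : Matrix (Fin n) (Fin n) F) *ᵥ w p = a • w r := by
    intro p
    have hmem : (h : Matrix (Fin n) (Fin n) F) *ᵥ w p ∈ D (σ p.1) := by
      rw [← hσ]; exact ⟨w p, hvW p.1 p.2, by simp⟩
    obtain ⟨b, a, hb⟩ := hframe (σ p.1) _ hmem (by
      have := hGU (w p) (w p)
      exact (this.trans (hw1 p)).trans_ne one_ne_zero)
    exact ⟨(σ p.1, b), a, hb⟩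
  choose π a hπ using hmove
  have hπi : Function.Injective π := by
    intro p r hpr
    by_contra hne
    have h1 : f ((h : Matrix (Fin n) (Fin n) F) *ᵥ w p) ((h : Matrix (Fin n) (Fin n) F) *ᵥ w r) = 0 :=
      (hGU (w p) (w r)).trans (hw p r hne)
    rw [hπ, hπ, hpr, hh.smul_left, hh.smul_right, hw1, mul_one] at h1
    have ha : ∀ s, a s ≠ 0 := by
      intro s hs
      have h2 : f ((h : Matrix (Fin n) (Fin n) F) *ᵥ w s) ((h : Matrix (Fin n) (Fin n) F) *ᵥ w s) = 1 :=
        (hGU (w s) (w s)).trans (hw1 s)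
      rw [hπ, hs, zero_smul, hh.zero_left] at h2
      exact zero_ne_one h2
    exact mul_ne_zero (ha p) (fun h' => ha r ((Geometry.frobQ hF).injective (h'.trans (map_zero _).symm))) h1
  refine ⟨(e.trans (Equiv.ofBijective π (Finite.injective_iff_bijective.mp hπi))).trans e.symm, fun s => ?_⟩
  simp only [E, Equiv.trans_apply, Equiv.ofBijective_apply, Equiv.apply_symm_apply]
  rw [Submodule.map_span, Set.image_singleton, Matrix.toLin'_apply, hπ]
  refine Submodule.span_singleton_smul_eq (IsUnit.mk0 _ fun ha => ?_) _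
  have h2 : f ((h : Matrix (Fin n) (Fin n) F) *ᵥ w (e s)) ((h : Matrix (Fin n) (Fin n) F) *ᵥ w (e s)) = 1 :=
    (hGU _ _).trans (hw1 _)
  rw [hπ, ha, zero_smul, hh.zero_left] at h2
  exact zero_ne_one h2

end Unitary

end Cfsg.Agent.Lib.UnitTwoPrime
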